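import Groth.Agent.PerfRad.Descend
import Groth.Agent.UniRad.Exists
import Groth.Agent.Chev.MaxTorusBC
import Groth.Agent.SubGen.CommGeom
import Groth.Agent.Rigid.FibreTranslate

/-!
# The geometric unipotent radical over a perfect field is defined over the field
-/

set_option autoImplicit false
set_option backward.isDefEq.respectTransparency false
set_option linter.style.haveILetI false
set_option linter.unusedSectionVars false
set_option maxHeartbeats 1000000
set_option synthInstance.maxHeartbeats 200000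

universe u

open CategoryTheory CategoryTheory.Limits MonoidalCategory CartesianMonoidalCategory MonObj GrpObj AlgebraicGeometry
open Groth.Agent.SubGen (rpt map_rpt exists_rpt)

noncomputable section

namespace Groth.Agent.PerfRad

open Chev Chev.BorelFixed Chev.Borel Chev.MaxTorusExt Chev.MaxTorusBC UniRad

theorem toBC_fst {S T : Scheme.{u}} (j : T ⟶ S) {X : Over T} {G : Over S} (a : (Over.map j).obj X ⟶ G) :
    (MTBridge.toBC j a).left ≫ pullback.fst G.hom j = a.left := by
  simp [MTBridge.toBC, Adjunction.homEquiv_unit, Red.bc]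
  exact Category.id_comp _

theorem toBC_fst_id {S T : Scheme.{u}} (j : T ⟶ S) (G : Over S) :
    (((Over.mapPullbackAdj j).homEquiv ((Over.pullback j).obj G) G).symm (𝟙 _)).left = pullback.fst G.hom j := by
  simp [Adjunction.homEquiv_counit]

theorem tr_id_fst {S U V : Scheme.{u}} {g : V ⟶ U} {f : U ⟶ S} {ψ : V ⟶ S} (h : g ≫ f = ψ) (G : Over S) :
    (MaxTorusExt.tr h (𝟙 (Red.bc ψ G))).left ≫ pullback.fst (Red.bc f G).hom g ≫ pullback.fst G.hom f =
      pullback.fst G.hom ψ := by
  unfold MaxTorusExt.tr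
  rw [← Category.assoc, toBC_fst, toBC_fst, Over.comp_left, toBC_fst_id]
  simp [MaxTorusExt.reIso]

variable {K : Type u} [Field K]

/-- The absence of subtori is invariant under automorphisms of the field. -/
theorem hasNoSubtorus_twist (s t : Spec (CommRingCat.of K) ⟶ Spec (CommRingCat.of K)) (hts : t ≫ s = 𝟙 _)
    (R : Over (Spec (CommRingCat.of K))) [GrpObj R] (hR : Red.HasNoSubtorus K R) [IsIso t] :
    Red.HasNoSubtorus K ((Over.pullback s).obj R) := by
  haveI : PreservesLimitsOfShape WalkingCospan (Over.pullback t) :=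
    (Adjunction.rightAdjoint_preservesLimits (Over.mapPullbackAdj t)).preservesLimitsOfShape
  intro T _ j _ _ hT
  haveI := isIso_backHom s t hts R
  haveI : IsMonHom (asIso (backHom s t hts R)).hom := isMonHom_backHom s t hts R
  haveI : IsMonHom (inv (backHom s t hts R)) := inferInstanceAs (IsMonHom (asIso (backHom s t hts R)).inv)
  exact UniRad.isTrivial_of_pullback t T
    (hR _ ((Over.pullback t).map j ≫ inv (backHom s t hts R)) (Groth.Agent.Chev.isTorus_bc hT t))

variable {k : Type u} [Field k] [Algebra k K] [IsAlgClosed K]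

/-- The points of the unipotent radical are stable under Galois. -/
theorem radical_stable {G : Over (Spec (CommRingCat.of k))} [GrpObj G] [IsAffine G.left] [LocallyOfFiniteType G.hom]
    {R : Over (Spec (CommRingCat.of K))} [GrpObj R] {r : R ⟶ (bcF k K).obj G} (hR : Par.IsUnipotentRadical r)
    (q q' : RP ((bcF k K).obj G)) (σ : K ≃ₐ[k] K) (hq : rpt q ∈ Set.range r.left)
    (hqq : q'.left ≫ pullback.fst G.hom (bot k K) =
      Spec.map (CommRingCat.ofHom σ.toAlgHom.toRingHom) ≫ q.left ≫ pullback.fst G.hom (bot k K)) :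
    rpt q' ∈ Set.range r.left := by
  let w := bot k K
  let s : Spec (CommRingCat.of K) ⟶ Spec (CommRingCat.of K) := Spec.map (CommRingCat.ofHom σ.toAlgHom.toRingHom)
  let t : Spec (CommRingCat.of K) ⟶ Spec (CommRingCat.of K) := Spec.map (CommRingCat.ofHom σ.symm.toAlgHom.toRingHom)
  have hst : s ≫ t = 𝟙 _ := by
    rw [← Spec.map_comp, ← Spec.map_id]
    congr 1
    ext c
    exact σ.apply_symm_apply c
  have hts : t ≫ s = 𝟙 _ := by
    rw [← Spec.map_comp, ← Spec.map_id]
    congr 1
    ext c
    exact σ.symm_apply_apply c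
  haveI : IsIso t := ⟨s, hts, hst⟩
  haveI : IsIso s := ⟨t, hst, hts⟩
  have hsw : s ≫ w = w := by
    rw [← Spec.map_comp]
    congr 1
    ext c
    exact σ.commutes c
  obtain ⟨hrm, hrc, hrn, hrs, -, hrf, -⟩ := id hR
  haveI := hrm; haveI := hrc; haveI := hrs
  obtain ⟨hRc, hRt⟩ := (geomFibre_unipotent_iff R (IsLocalRing.closedPoint K)).1 (hrf _)
  haveI := hRc
  haveI : IsAffineHom G.hom := isAffineHom_of_isAffine G.hom
  haveI : IsAffineHom ((bcF k K).obj G).hom := MorphismProperty.pullback_snd _ _ ‹IsAffineHom G.hom›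
  haveI : IsAffine ((bcF k K).obj G).left := isAffine_of_isAffineHom ((bcF k K).obj G).hom
  haveI : IsAffine R.left := isAffine_of_isAffineHom r.left
  haveI : LocallyOfFiniteType ((bcF k K).obj G).hom :=
    MorphismProperty.pullback_snd _ _ ‹LocallyOfFiniteType G.hom›
  haveI : LocallyOfFiniteType R.hom := inferInstance
  haveI : PreservesLimitsOfShape WalkingCospan (Over.pullback s) :=
    (Adjunction.rightAdjoint_preservesLimits (Over.mapPullbackAdj s)).preservesLimitsOfShape
  obtain ⟨e, he, hem⟩ := exists_trIso hsw G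
  haveI : IsMonHom e.hom := hem
  haveI : IsMonHom e.inv := inferInstance
  let R' := (Over.pullback s).obj R
  let r' : R' ⟶ (bcF k K).obj G := (Over.pullback s).map r ≫ e.inv
  haveI : IsMonHom r' := by dsimp [r']; infer_instance
  haveI : IsClosedImmersion ((Over.pullback s).map r).left :=
    MorphismProperty.baseChange_map (P := @IsClosedImmersion) s r hrc
  haveI : IsIso e.inv.left := inferInstanceAs (IsIso ((Over.forget _).map e.inv))
  haveI : IsClosedImmersion r'.left :=
    inferInstanceAs (IsClosedImmersion (((Over.pullback s).map r).left ≫ e.inv.left))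
  haveI : Smooth R'.hom := MorphismProperty.pullback_snd _ _ hrs
  haveI : IsAffine R'.left := isAffine_of_isAffineHom r'.left
  haveI : IsIso (pullback.fst R.hom s) := inferInstance
  haveI : ConnectedSpace R'.left :=
    (Scheme.homeoOfIso (asIso (pullback.fst R.hom s))).symm.surjective.connectedSpace
      (Scheme.homeoOfIso (asIso (pullback.fst R.hom s))).symm.continuous
  have hn : AlgGrp.IsNormalHom r' := by
    intro X a z
    obtain ⟨z', hz'⟩ := SubGen.isNormalHom_pullback s _ r hrn X (a ≫ e.hom) z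
    refine ⟨z', ?_⟩
    rw [← Category.assoc z' _ e.inv, ← hz', MonObj.mul_comp, MonObj.mul_comp, GrpObj.inv_comp, Category.assoc a,
      Iso.hom_inv_id, Category.comp_id, Category.assoc]
  obtain ⟨f, hf⟩ := exists_le_radical hR r' hn (hasNoSubtorus_twist s t hts R hRt)
  obtain ⟨q₀, hq₀⟩ := exists_rp_of_mem_range r q hq
  let q₁ : RP R' := Over.homMk (pullback.lift (s ≫ q₀.left) (𝟙 _) (by
    rw [Category.assoc, Over.w q₀]; exact (Category.comp_id _).trans (Category.id_comp _).symm))
    (pullback.lift_snd _ _ _)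
  haveI : IsSeparated G.hom := inferInstance
  have hq₁ : q₁ ≫ r' = q' := by
    refine Over.OverMorphism.ext (pullback.hom_ext ?_ ((Over.w (q₁ ≫ r')).trans (Over.w q').symm))
    have h1 : e.inv.left ≫ pullback.fst G.hom w = pullback.fst (Red.bc w G).hom s ≫ pullback.fst G.hom w := by
      have h2 : e.inv.left ≫ e.hom.left = 𝟙 _ := by rw [← Over.comp_left, e.inv_hom_id]; rfl
      conv_lhs => rw [show pullback.fst G.hom w = e.hom.left ≫ pullback.fst (Red.bc w G).hom s ≫ pullback.fst G.hom w by
        rw [he, tr_id_fst]]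
      rw [reassoc_of% h2]
    show (q₁.left ≫ ((Over.pullback s).map r).left ≫ e.inv.left) ≫ pullback.fst G.hom w = _
    rw [Category.assoc, Category.assoc, h1]
    have h3 : ((Over.pullback s).map r).left ≫ pullback.fst (Red.bc w G).hom s = pullback.fst R.hom s ≫ r.left :=
      pullback.lift_fst _ _ _
    rw [reassoc_of% h3, hqq, ← hq₀, Over.comp_left]
    show pullback.lift _ _ _ ≫ _ = _
    rw [pullback.lift_fst_assoc]
    simp only [Category.assoc]
    rfl
  refine ⟨rpt (q₁ ≫ f), ?_⟩
  rw [map_rpt, Category.assoc, hf, hq₁]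

/-- **Over a perfect field the geometric unipotent radical is defined over the field.** -/
theorem exists_descended_radical [PerfectField k] [Algebra.IsAlgebraic k K] (G : Over (Spec (CommRingCat.of k)))
    [GrpObj G] [IsAffine G.left] [Smooth G.hom] [ConnectedSpace G.left] :
    ∃ (U : Over (Spec (CommRingCat.of k))) (_ : GrpObj U) (u : U ⟶ G) (R : Over (Spec (CommRingCat.of K)))
      (_ : GrpObj R) (r : R ⟶ (bcF k K).obj G) (e : (bcF k K).obj U ≅ R),
      IsMonHom u ∧ IsClosedImmersion u.left ∧ AlgGrp.IsNormalHom u ∧ Smooth U.hom ∧ QuasiCompact U.hom ∧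
        ConnectedSpace U.left ∧ Par.IsUnipotentRadical r ∧ IsMonHom e.hom ∧ e.hom ≫ r = (bcF k K).map u ∧
        Set.range u.left = pullback.fst G.hom (bot k K) '' Set.range r.left := by
  let w := bot k K
  haveI : IsAffineHom G.hom := isAffineHom_of_isAffine G.hom
  haveI : IsAffineHom ((bcF k K).obj G).hom := MorphismProperty.pullback_snd _ _ ‹IsAffineHom G.hom›
  haveI : IsAffine ((bcF k K).obj G).left := isAffine_of_isAffineHom ((bcF k K).obj G).hom
  haveI : Smooth ((bcF k K).obj G).hom := MorphismProperty.pullback_snd _ _ ‹Smooth G.hom›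
  haveI : Subsingleton (Spec (CommRingCat.of K)) := inferInstanceAs (Subsingleton (PrimeSpectrum K))
  haveI : GeometricallyConnected G.hom :=
    Rigid.geometricallyConnected_of_section G.hom (η[G] : 𝟙_ _ ⟶ G).left (Over.w (η[G] : 𝟙_ _ ⟶ G))
  haveI : ConnectedSpace ((bcF k K).obj G).left :=
    GeometricallyConnected.connectedSpace_of_subsingleton (pullback.snd G.hom w)
  obtain ⟨R, _, r, hR, -⟩ := UniRad.exists_unipotentRadical ((bcF k K).obj G)
  obtain ⟨hrm, hrc, hrn, hrs, -, hrf, -⟩ := id hR
  haveI := hrm; haveI := hrc; haveI := hrs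
  haveI : IsReduced R.left := SmoothRed.isReduced_of_smooth_scheme R.hom
  obtain ⟨hRc, -⟩ := (geomFibre_unipotent_iff R (IsLocalRing.closedPoint K)).1 (hrf _)
  haveI := hRc
  obtain ⟨Z, j, e, hjc, hZr, hje, hrange⟩ := exists_closed_descent r (radical_stable hR)
  haveI := hjc; haveI := hZr
  let pr : ∀ X : Over (Spec (CommRingCat.of k)), ((bcF k K).obj X).left ⟶ X.left := fun X => pullback.fst X.hom w
  haveI hpr : ∀ X, Surjective (pr X) := fun X =>
    haveI : Subsingleton (Spec (CommRingCat.of k)) := inferInstanceAs (Subsingleton (PrimeSpectrum k))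
    haveI : Surjective w := ⟨fun x => ⟨IsLocalRing.closedPoint K, Subsingleton.elim _ _⟩⟩
    MorphismProperty.pullback_fst _ _ ‹_›
  haveI : LocallyOfFiniteType Z.hom := by rw [← Over.w j]; infer_instance
  haveI : QuasiCompact Z.hom := by rw [← Over.w j]; infer_instance
  have hfac : ∀ {X : Over (Spec (CommRingCat.of k))} [IsReduced X.left] (g : X ⟶ G),
      (∃ g' : (bcF k K).obj X ⟶ R, g' ≫ r = (bcF k K).map g) → ∃ g' : X ⟶ Z, g' ≫ j = g := by
    intro X _ g ⟨g', hg'⟩
    refine Chev.exists_lift_range g j ?_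
    rw [hrange]
    rintro _ ⟨x, rfl⟩
    obtain ⟨x', rfl⟩ := (hpr X).surj x
    refine ⟨r.left (g'.left x'), ⟨_, rfl⟩, ?_⟩
    show ((g' ≫ r).left ≫ pullback.fst G.hom w) x' = (pr X ≫ g.left) x'
    rw [hg']
    exact congrArg (fun m : ((bcF k K).obj X).left ⟶ G.left => m x') (pullback.lift_fst _ _ _)
  haveI : IsReduced (𝟙_ (Over (Spec (CommRingCat.of k)))).left := inferInstanceAs (IsReduced (Spec (CommRingCat.of k)))
  haveI : IsReduced (Z ⊗ Z).left := Assoc.isReduced_pullback k Z.hom Z.hom
  haveI : PreservesLimitsOfShape WalkingCospan (bcF k K) :=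
    (Adjunction.rightAdjoint_preservesLimits (Over.mapPullbackAdj w)).preservesLimitsOfShape
  obtain ⟨e₀, he₀⟩ := hfac η[G] ⟨inv (Functor.LaxMonoidal.ε (bcF k K)) ≫ η[R], by
    rw [Category.assoc, IsMonHom.one_hom, Functor.obj.η_def, IsIso.inv_hom_id_assoc]⟩
  obtain ⟨d, hd⟩ := hfac ((fst Z Z ≫ j)⁻¹ * (snd Z Z ≫ j))
    ⟨((bcF k K).map (fst Z Z) ≫ e.hom)⁻¹ * ((bcF k K).map (snd Z Z) ≫ e.hom), by
      rw [MonObj.mul_comp, GrpObj.inv_comp, Category.assoc, Category.assoc, hje, ← Functor.map_comp,
        ← Functor.map_comp, Functor.map_mul, Functor.map_inv']⟩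
  obtain ⟨hgrp, hjm⟩ := GrpField.SchImg.exists_grpObj_of_div j ⟨e₀, he₀⟩ fun T k₁ k₂ => ⟨lift k₁ k₂ ≫ d, by
    rw [Category.assoc, hd, MonObj.comp_mul, GrpObj.comp_inv, lift_fst_assoc, lift_snd_assoc]⟩
  haveI := hjm
  haveI : Smooth Z.hom := by
    letI : GrpObj (Over.mk Z.hom) := hgrp
    exact GrpBasic.smooth_of_grpObj_perfect Z.hom
  haveI : Mono r := GrpField.SchImg.mono_of_isClosedImmersion r
  haveI : IsMonHom e.hom := MTSplit.isMonHom_of_comp_mono e.hom r ((bcF k K).map j) hje
  haveI : IsIso e.hom.left := inferInstanceAs (IsIso ((Over.forget _).map e.hom))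
  haveI : ConnectedSpace ((bcF k K).obj Z).left :=
    (Scheme.homeoOfIso (asIso e.hom.left)).symm.surjective.connectedSpace
      (Scheme.homeoOfIso (asIso e.hom.left)).symm.continuous
  haveI : ConnectedSpace Z.left := (hpr Z).surj.connectedSpace (pr Z).continuous
  haveI : Smooth (G ⊗ Z).hom := by
    show Smooth (pullback.fst G.hom Z.hom ≫ G.hom)
    infer_instance
  haveI : IsReduced (G ⊗ Z).left := SmoothRed.isReduced_of_smooth_scheme (G ⊗ Z).hom
  have hn : AlgGrp.IsNormalHom j := by
    obtain ⟨z', hz'⟩ := hrn _ ((bcF k K).map (fst G Z)) ((bcF k K).map (snd G Z) ≫ e.hom)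
    rw [Category.assoc, hje] at hz'
    obtain ⟨m, hm⟩ := hfac (fst G Z * (snd G Z ≫ j) * (fst G Z)⁻¹) ⟨z', by
      rw [← hz']
      simp only [Functor.map_mul, Functor.map_inv', Functor.map_comp]⟩
    intro X a z
    refine ⟨lift a z ≫ m, ?_⟩
    rw [Category.assoc, hm, MonObj.comp_mul, MonObj.comp_mul, GrpObj.comp_inv, lift_snd_assoc, lift_fst]
  exact ⟨Z, hgrp, j, R, inferInstance, r, e, hjm, hjc, hn, inferInstance, inferInstance, inferInstance, hR,
    inferInstance, hje, hrange⟩

end Groth.Agent.PerfRad
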