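import Groth.Agent.PerfRad.Radical
import Groth.Agent.RedQuot.Radical

/-!
# Base change of the unipotent radical over a perfect field
-/

set_option autoImplicit false
set_option backward.isDefEq.respectTransparency false
set_option linter.style.haveILetI false
set_option linter.unusedSectionVars false
set_option maxHeartbeats 1000000
set_option synthInstance.maxHeartbeats 200000

universe u

open CategoryTheory CategoryTheory.Limits MonoidalCategory CartesianMonoidalCategory MonObj GrpObj AlgebraicGeometry
open Groth.Agent.SubGen (rpt map_rpt exists_rpt)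

noncomputable section

namespace Groth.Agent.PerfRad

open Chev UniRad

variable {k : Type u} [Field k]

/-- The residue field of the point of `Spec k` is algebraic over `k`. -/
theorem algebraMap_residue_bijective (s : Spec (CommRingCat.of k)) :
    ∃ ψ : CommRingCat.of k ⟶ (Spec (CommRingCat.of k)).residueField s,
      Function.Bijective ψ.hom ∧ Spec.map ψ = (Spec (CommRingCat.of k)).fromSpecResidueField s := by
  haveI : s.asIdeal.IsMaximal := by
    have h : s.asIdeal = ⊥ := Ideal.eq_bot_of_prime s.asIdeal
    exact h ▸ Ideal.bot_isMaximal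
  have hb : Function.Bijective (algebraMap k s.asIdeal.ResidueField) :=
    ⟨(algebraMap k s.asIdeal.ResidueField).injective, Ideal.algebraMap_residueField_surjective s.asIdeal⟩
  refine ⟨CommRingCat.ofHom (algebraMap k s.asIdeal.ResidueField) ≫
    (Scheme.Spec.residueFieldIso (CommRingCat.of k) s).inv, ?_, ?_⟩
  · rw [CommRingCat.hom_comp, RingHom.coe_comp]
    exact (ConcreteCategory.bijective_of_isIso (Scheme.Spec.residueFieldIso (CommRingCat.of k) s).inv).comp hb
  · rw [Spec.map_comp]
    exact Scheme.Spec.map_residueFieldIso_inv_eq_fromSpecResidueField (CommRingCat.of k) s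

/-- A geometric point of `Spec k` is given by an algebraically closed algebraic extension. -/
theorem exists_algebra_geomPt (s : Spec (CommRingCat.of k)) :
    ∃ _ : Algebra k (AlgebraicClosure ((Spec (CommRingCat.of k)).residueField s)),
      Algebra.IsAlgebraic k (AlgebraicClosure ((Spec (CommRingCat.of k)).residueField s)) ∧
        Red.geomPt s = bot k (AlgebraicClosure ((Spec (CommRingCat.of k)).residueField s)) := by
  obtain ⟨ψ, hψ, hψs⟩ := algebraMap_residue_bijective s
  let K := AlgebraicClosure ((Spec (CommRingCat.of k)).residueField s)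
  letI : Algebra k ((Spec (CommRingCat.of k)).residueField s) := ψ.hom.toAlgebra
  haveI : IsScalarTower k ((Spec (CommRingCat.of k)).residueField s) K := inferInstance
  haveI : Algebra.IsAlgebraic k ((Spec (CommRingCat.of k)).residueField s) := ⟨fun x => by
    obtain ⟨c, rfl⟩ := hψ.2 x
    exact isAlgebraic_algebraMap c⟩
  refine ⟨inferInstance, Algebra.IsAlgebraic.trans k ((Spec (CommRingCat.of k)).residueField s) K, ?_⟩
  show Spec.map _ ≫ _ = Spec.map _
  rw [← hψs, ← Spec.map_comp]
  rfl

variable [PerfectField k] {K : Type u} [Field K] [IsAlgClosed K]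

omit [PerfectField k] in
/-- Largest subgroups are preserved under isomorphisms. -/
theorem isUnipotentRadical_of_iso {P R R' : Over (Spec (CommRingCat.of K))} [GrpObj P] [GrpObj R] [GrpObj R']
    (e : R' ≅ R) [IsMonHom e.hom] {r : R ⟶ P} (hr : Par.IsUnipotentRadical r) :
    Par.IsUnipotentRadical (e.hom ≫ r) := by
  obtain ⟨hm, hc, hn, hs, hq, hf, hmax⟩ := hr
  haveI := hm; haveI := hc; haveI := hs; haveI := hq
  haveI : IsIso e.hom.left := inferInstanceAs (IsIso ((Over.forget _).map e.hom))
  haveI : Smooth R'.hom := by rw [← Over.w e.hom]; infer_instance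
  haveI : IsClosedImmersion (e.hom ≫ r).left := inferInstanceAs (IsClosedImmersion (e.hom.left ≫ r.left))
  haveI : LocallyOfFiniteType R'.hom := inferInstance
  haveI : QuasiCompact R'.hom := by rw [← Over.w e.hom]; infer_instance
  refine ⟨inferInstance, inferInstance, fun X a z => ?_, inferInstance, inferInstance, fun s => ?_, fun U' _ u' _ h₁ h₂ h₃ h₄ h₅ => ?_⟩
  · obtain ⟨z', hz'⟩ := hn X a (z ≫ e.hom)
    refine ⟨z' ≫ e.inv, ?_⟩
    rw [Category.assoc, e.inv_hom_id_assoc, ← hz', Category.assoc]
  · rw [geomFibre_unipotent_iff]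
    obtain ⟨hc', ht⟩ := (geomFibre_unipotent_iff R (IsLocalRing.closedPoint K)).1 (hf _)
    haveI := hc'
    refine ⟨(Scheme.homeoOfIso (asIso e.hom.left)).symm.surjective.connectedSpace
      (Scheme.homeoOfIso (asIso e.hom.left)).symm.continuous, fun T _ j _ _ hT => ?_⟩
    exact ht T (j ≫ e.hom) hT
  · obtain ⟨f, hf'⟩ := hmax U' u' h₁ h₂ h₃ h₄ h₅
    exact ⟨f ≫ e.inv, by rw [Category.assoc, e.inv_hom_id_assoc, hf']⟩

section Alg

variable [Algebra k K] [Algebra.IsAlgebraic k K]

/-- Subgroups which are geometrically connected without subtori lie in the descended radical. -/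
theorem exists_le_descended {G U U' : Over (Spec (CommRingCat.of k))} [GrpObj G] [GrpObj U'] [IsAffine G.left]
    [IsReduced U'.left] (u : U ⟶ G) [IsClosedImmersion u.left] {R' : Over (Spec (CommRingCat.of K))}
    (r : R' ⟶ (bcF k K).obj G) (hrange : Set.range u.left = pullback.fst G.hom (bot k K) '' Set.range r.left)
    (u' : U' ⟶ G) (h : ∃ g : (bcF k K).obj U' ⟶ R', g ≫ r = (bcF k K).map u') : ∃ f : U' ⟶ U, f ≫ u = u' := by
  obtain ⟨g, hg⟩ := h
  refine Chev.exists_lift_range u' u ?_
  rw [hrange]
  rintro _ ⟨x, rfl⟩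
  haveI : Surjective (pullback.fst U'.hom (bot k K)) :=
    haveI : Subsingleton (Spec (CommRingCat.of k)) := inferInstanceAs (Subsingleton (PrimeSpectrum k))
    haveI : Surjective (bot k K) := ⟨fun x => ⟨IsLocalRing.closedPoint K, Subsingleton.elim _ _⟩⟩
    MorphismProperty.pullback_fst _ _ ‹_›
  obtain ⟨x', rfl⟩ := (pullback.fst U'.hom (bot k K)).surjective x
  refine ⟨r.left (g.left x'), ⟨_, rfl⟩, ?_⟩
  show ((g ≫ r).left ≫ pullback.fst G.hom (bot k K)) x' = (pullback.fst U'.hom (bot k K) ≫ u'.left) x'
  rw [hg]
  exact congrArg (fun m : ((bcF k K).obj U').left ⟶ G.left => m x') (pullback.lift_fst _ _ _)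

end Alg

/-- **The unipotent radical over a perfect field becomes the unipotent radical over the geometric point.** -/
theorem isUnipotentRadical_geomFibre {G U : Over (Spec (CommRingCat.of k))} [GrpObj G] [GrpObj U] [IsAffine G.left]
    [Smooth G.hom] [ConnectedSpace G.left] {u : U ⟶ G} (hU : Par.IsUnipotentRadical u)
    (s : Spec (CommRingCat.of k)) :
    Par.IsUnipotentRadical ((Over.pullback (Red.geomPt s)).map u) := by
  haveI : Subsingleton (Spec (CommRingCat.of k)) := inferInstanceAs (Subsingleton (PrimeSpectrum k))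
  obtain ⟨alg, halg, hpt⟩ := exists_algebra_geomPt s
  letI := alg; haveI := halg
  obtain ⟨hum, huc, hun, hus, huq, huf, humax⟩ := id hU
  haveI := hum; haveI := huc; haveI := hus; haveI := huq
  haveI : IsReduced U.left := SmoothRed.isReduced_of_smooth_scheme U.hom
  obtain ⟨Z, _, j, R, _, r, e, hjm, hjc, hjn, hjs, hjq, hjconn, hR, hem, hje, hrange⟩ :=
    exists_descended_radical (K := AlgebraicClosure ((Spec (CommRingCat.of k)).residueField s)) G
  haveI := hjm; haveI := hjc; haveI := hem; haveI := hjs
  haveI : IsReduced Z.left := SmoothRed.isReduced_of_smooth_scheme Z.hom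
  haveI : IsAffineHom G.hom := isAffineHom_of_isAffine G.hom
  let w := bot k (AlgebraicClosure ((Spec (CommRingCat.of k)).residueField s))
  let F := bcF k (AlgebraicClosure ((Spec (CommRingCat.of k)).residueField s))
  haveI : PreservesLimitsOfShape WalkingCospan F :=
    (Adjunction.rightAdjoint_preservesLimits (Over.mapPullbackAdj w)).preservesLimitsOfShape
  have hFZ := isUnipotentRadical_of_iso e hR
  rw [hje] at hFZ
  obtain ⟨hZc, hZt⟩ :=
    (geomFibre_unipotent_iff (F.obj Z) (IsLocalRing.closedPoint _)).1 (hFZ.2.2.2.2.2.1 _)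
  -- the descended subgroup lies in `U`
  obtain ⟨f, hf⟩ := humax Z j hjc hjn hjs hjq (fun s' => by
    obtain rfl : s' = s := Subsingleton.elim _ _
    show ConnectedSpace ((Over.pullback (Red.geomPt s')).obj Z).left ∧
      Red.HasNoSubtorus _ ((Over.pullback (Red.geomPt s')).obj Z)
    rw [hpt]
    exact ⟨hZc, hZt⟩)
  -- and `U` lies in the descended subgroup
  have hUf : ConnectedSpace (F.obj U).left ∧
      Red.HasNoSubtorus (AlgebraicClosure ((Spec (CommRingCat.of k)).residueField s)) (F.obj U) := by
    have h := huf s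
    unfold Red.geomFibre Red.bc at h
    rw [hpt] at h
    exact h
  haveI := hUf.1
  haveI : IsClosedImmersion (F.map u).left := MorphismProperty.baseChange_map (P := @IsClosedImmersion) w u huc
  haveI : Smooth (F.obj U).hom := MorphismProperty.pullback_snd _ _ hus
  haveI : IsAffineHom (F.obj G).hom := MorphismProperty.pullback_snd _ _ ‹IsAffineHom G.hom›
  haveI : IsAffine (F.obj G).left := isAffine_of_isAffineHom (F.obj G).hom
  haveI : IsAffine (F.obj U).left := isAffine_of_isAffineHom (F.map u).left
  obtain ⟨g, hg⟩ := exists_le_radical hR (F.map u) (SubGen.isNormalHom_pullback w G u hun) hUf.2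
  obtain ⟨f', hf'⟩ := exists_le_descended j r hrange u ⟨g, hg⟩
  haveI : Mono u := GrpField.SchImg.mono_of_isClosedImmersion u
  haveI : Mono j := GrpField.SchImg.mono_of_isClosedImmersion j
  let i : U ≅ Z := ⟨f', f, (cancel_mono u).1 (by rw [Category.assoc, hf, hf', Category.id_comp]),
    (cancel_mono j).1 (by rw [Category.assoc, hf', hf, Category.id_comp])⟩
  haveI : IsMonHom i.hom := MTSplit.isMonHom_of_comp_mono i.hom j u hf'
  haveI : IsMonHom (F.mapIso i).hom := inferInstanceAs (IsMonHom (F.map i.hom))
  have h := isUnipotentRadical_of_iso (F.mapIso i) hFZ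
  rw [Functor.mapIso_hom, ← Functor.map_comp, show i.hom ≫ j = u from hf'] at h
  show Par.IsUnipotentRadical ((Over.pullback (Red.geomPt s)).map u)
  rw [hpt]
  exact h

end Groth.Agent.PerfRad
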