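import Groth.Agent.PerfRad.Galois
import Groth.Agent.UniRad.NonConn
import Groth.Agent.GrpBasic.Perfect
import Groth.Agent.Assoc.Reduced
import Mathlib.AlgebraicGeometry.Morphisms.Integral

/-!
# Descent of reduced subgroups stable under Galois from the algebraic closure of a perfect field
-/

set_option autoImplicit false
set_option backward.isDefEq.respectTransparency false
set_option linter.style.haveILetI false
set_option linter.unusedSectionVars false
set_option maxHeartbeats 1000000
set_option synthInstance.maxHeartbeats 200000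

universe u

open CategoryTheory CategoryTheory.Limits MonoidalCategory CartesianMonoidalCategory MonObj GrpObj AlgebraicGeometry
open Groth.Agent.SubGen (rpt map_rpt exists_rpt)

noncomputable section

namespace Groth.Agent.PerfRad

open Chev Chev.BorelFixed Chev.Borel

variable (k K : Type u) [Field k] [Field K] [Algebra k K]

/-- The morphism of spectra. -/
abbrev bot : Spec (CommRingCat.of K) ⟶ Spec (CommRingCat.of k) := Spec.map (CommRingCat.ofHom (algebraMap k K))

/-- Base change to `K`. -/
abbrev bcF : Over (Spec (CommRingCat.of k)) ⥤ Over (Spec (CommRingCat.of K)) := Over.pullback (bot k K)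

variable {k K} [PerfectField k] [IsAlgClosed K] [Algebra.IsAlgebraic k K]

/-- A reduced closed subset stable under Galois is the base change of a reduced closed subset. -/
theorem exists_closed_descent {G : Over (Spec (CommRingCat.of k))} [LocallyOfFiniteType G.hom]
    {R : Over (Spec (CommRingCat.of K))} [IsReduced R.left] (r : R ⟶ (bcF k K).obj G) [IsClosedImmersion r.left]
    (hst : ∀ (q q' : RP ((bcF k K).obj G)) (σ : K ≃ₐ[k] K), rpt q ∈ Set.range r.left →
      q'.left ≫ pullback.fst G.hom (bot k K) =
        Spec.map (CommRingCat.ofHom σ.toAlgHom.toRingHom) ≫ q.left ≫ pullback.fst G.hom (bot k K) →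
      rpt q' ∈ Set.range r.left) :
    ∃ (Z : Over (Spec (CommRingCat.of k))) (j : Z ⟶ G) (e : (bcF k K).obj Z ≅ R), IsClosedImmersion j.left ∧
      IsReduced Z.left ∧ e.hom ≫ r = (bcF k K).map j ∧
      Set.range j.left = pullback.fst G.hom (bot k K) '' Set.range r.left := by
  let w := bot k K
  let pr : ((bcF k K).obj G).left ⟶ G.left := pullback.fst G.hom w
  haveI : IsIntegralHom w := by
    rw [IsIntegralHom.SpecMap_iff]
    exact Algebra.IsIntegral.isIntegral (R := k) (A := K)
  haveI : IsIntegralHom pr := MorphismProperty.pullback_fst _ _ ‹_›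
  haveI : LocallyOfFiniteType ((bcF k K).obj G).hom := inferInstanceAs (LocallyOfFiniteType (pullback.snd G.hom w))
  haveI : JacobsonSpace ((bcF k K).obj G).left := LocallyOfFiniteType.jacobsonSpace ((bcF k K).obj G).hom
  haveI : LocallyOfFiniteType R.hom := by rw [← Over.w r]; infer_instance
  haveI : JacobsonSpace R.left := LocallyOfFiniteType.jacobsonSpace R.hom
  let C : TopologicalSpace.Closeds G.left :=
    ⟨pr '' Set.range r.left, pr.isClosedMap _ r.left.isClosedEmbedding.isClosed_range⟩
  have hpre : pr ⁻¹' (C : Set G.left) = Set.range r.left := by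
    refine subset_antisymm ?_ (Set.subset_preimage_image _ _)
    intro z hz
    have hcl : IsClosed (pr ⁻¹' (C : Set G.left)) := C.2.preimage pr.continuous
    rw [← closure_inter_closedPoints hcl] at hz
    refine closure_minimal ?_ r.left.isClosedEmbedding.isClosed_range hz
    rintro z' ⟨hz', hz'c⟩
    obtain ⟨y, ⟨a, rfl⟩, hy⟩ := hz'
    have hyc : IsClosed ({pr z'} : Set G.left) := by
      have := pr.isClosedMap _ (mem_closedPoints_iff.1 hz'c)
      rwa [Set.image_singleton] at this
    obtain ⟨b, hb, hbc⟩ := nonempty_inter_closedPoints (Z := r.left ⁻¹' (pr ⁻¹' {pr z'})) ⟨a, hy⟩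
      (((hyc.preimage pr.continuous).preimage r.left.continuous).isLocallyClosed)
    obtain ⟨q₀, rfl⟩ := exists_rpt hbc
    obtain ⟨q', rfl⟩ := exists_rpt hz'c
    let x : Spec (CommRingCat.of K) ⟶ G.left := (q₀ ≫ r).left ≫ pr
    have hover : ∀ q : RP ((bcF k K).obj G), (q.left ≫ pr) ≫ G.hom = w := fun q => by
      rw [Category.assoc, show pr ≫ G.hom = ((bcF k K).obj G).hom ≫ w from pullback.condition,
        reassoc_of% Over.w q]
      exact Category.id_comp w
    obtain ⟨σ, hσ⟩ := exists_auto_of_point_eq G.hom x (q'.left ≫ pr) (hover _) (hover q') hb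
    exact hst (q₀ ≫ r) q' σ ⟨_, map_rpt r q₀⟩ hσ
  let I := Scheme.IdealSheafData.vanishingIdeal C
  let Z : Over (Spec (CommRingCat.of k)) := Over.mk (I.subschemeι ≫ G.hom)
  let j : Z ⟶ G := Over.homMk I.subschemeι rfl
  haveI : IsClosedImmersion j.left := inferInstanceAs (IsClosedImmersion I.subschemeι)
  haveI : IsReduced Z.left := inferInstanceAs (IsReduced I.subscheme)
  have hrj : Set.range j.left = (C : Set G.left) := by
    show Set.range I.subschemeι = _
    rw [Scheme.IdealSheafData.range_subschemeι, Scheme.IdealSheafData.coe_support_vanishingIdeal]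
  haveI : IsReduced ((bcF k K).obj Z).left := Assoc.isReduced_pullback k Z.hom w
  haveI : IsClosedImmersion ((bcF k K).map j).left :=
    MorphismProperty.baseChange_map (P := @IsClosedImmersion) w j ‹_›
  have hrange : Set.range ((bcF k K).map j).left = Set.range r.left := by
    rw [← hpre, ← hrj]
    have hfst : ((bcF k K).map j).left ≫ pr = pullback.fst Z.hom w ≫ j.left := by simp [pr, bcF, w]
    have hsq : IsPullback ((bcF k K).map j).left (pullback.fst Z.hom w) pr j.left := by
      refine IsPullback.of_right (h₁₂ := ((bcF k K).obj G).hom) (v₁₃ := w) (h₂₂ := G.hom) ?_ hfst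
        (IsPullback.of_hasPullback G.hom w).flip
      rw [Over.w, Over.w]
      exact (IsPullback.of_hasPullback Z.hom w).flip
    rw [← hsq.isoPullback_hom_fst, Scheme.Hom.comp_base, TopCat.coe_comp, Set.range_comp,
      Set.range_eq_univ.2 hsq.isoPullback.hom.surjective, Set.image_univ, Scheme.Pullback.range_fst]
  obtain ⟨a, ha⟩ := Chev.exists_lift_range ((bcF k K).map j) r hrange.le
  obtain ⟨b, hb⟩ := Chev.exists_lift_range r ((bcF k K).map j) hrange.ge
  haveI : Mono r := GrpField.SchImg.mono_of_isClosedImmersion r
  haveI : Mono ((bcF k K).map j) := GrpField.SchImg.mono_of_isClosedImmersion _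
  exact ⟨Z, j, ⟨a, b, (cancel_mono ((bcF k K).map j)).1 (by rw [Category.assoc, hb, ha, Category.id_comp]),
    (cancel_mono r).1 (by rw [Category.assoc, ha, hb, Category.id_comp])⟩, inferInstance, inferInstance, ha, hrj⟩

end Groth.Agent.PerfRad
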