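import Mathlib.AlgebraicGeometry.ResidueField
import Mathlib.FieldTheory.Normal.Basic
import Mathlib.FieldTheory.IsAlgClosed.Basic

/-!
# Points with values in an algebraic closure and Galois conjugation
-/

set_option autoImplicit false
set_option linter.style.haveILetI false

universe u

open CategoryTheory AlgebraicGeometry

noncomputable section

namespace Groth.Agent.PerfRad

variable {k K : Type u} [Field k] [Field K] [Algebra k K] [IsAlgClosed K] [Algebra.IsAlgebraic k K]

/-- Two geometric points over the same point are conjugate. -/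
theorem exists_auto_of_point_eq {Y : Scheme.{u}} (f : Y ⟶ Spec (CommRingCat.of k))
    (x x' : Spec (CommRingCat.of K) ⟶ Y) (hx : x ≫ f = Spec.map (CommRingCat.ofHom (algebraMap k K)))
    (hx' : x' ≫ f = Spec.map (CommRingCat.ofHom (algebraMap k K)))
    (h : x (IsLocalRing.closedPoint K) = x' (IsLocalRing.closedPoint K)) :
    ∃ σ : K ≃ₐ[k] K, x' = Spec.map (CommRingCat.ofHom σ.toAlgHom.toRingHom) ≫ x := by
  obtain ⟨⟨y, a⟩, rfl⟩ := (Scheme.SpecToEquivOfField K Y).symm.surjective x
  obtain ⟨⟨y', b⟩, rfl⟩ := (Scheme.SpecToEquivOfField K Y).symm.surjective x'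
  change Spec.map a ≫ Y.fromSpecResidueField y ≫ f = _ at hx
  change Spec.map b ≫ Y.fromSpecResidueField y' ≫ f = _ at hx'
  change (Spec.map a ≫ Y.fromSpecResidueField y) (IsLocalRing.closedPoint K) =
    (Spec.map b ≫ Y.fromSpecResidueField y') (IsLocalRing.closedPoint K) at h
  rw [Scheme.Hom.comp_apply, Scheme.Hom.comp_apply, Scheme.fromSpecResidueField_apply,
    Scheme.fromSpecResidueField_apply] at h
  subst h
  obtain ⟨φ, hφ⟩ := Spec.map_surjective (Y.fromSpecResidueField y ≫ f)
  rw [← hφ, ← Spec.map_comp] at hx hx'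
  have hφa := Spec.map_injective hx
  have hφb := Spec.map_injective hx'
  letI : Algebra k (Y.residueField y) := φ.hom.toAlgebra
  letI : Algebra (Y.residueField y) K := a.hom.toAlgebra
  haveI : IsScalarTower k (Y.residueField y) K :=
    IsScalarTower.of_algebraMap_eq fun c => (congr($(hφa).hom c)).symm
  let ψ : Y.residueField y →ₐ[k] K :=
    { b.hom with commutes' := fun c => congr($(hφb).hom c) }
  haveI : IsAlgClosure k K := ⟨inferInstance, inferInstance⟩
  haveI : Normal k K := IsAlgClosure.normal k K
  let σ₀ : K →ₐ[k] K := AlgHom.liftNormal ψ K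
  refine ⟨AlgEquiv.ofBijective σ₀ (AlgHom.normal_bijective k K K σ₀), ?_⟩
  change Spec.map b ≫ Y.fromSpecResidueField y = _ ≫ Spec.map a ≫ Y.fromSpecResidueField y
  rw [← Category.assoc, ← Spec.map_comp]
  congr 2
  ext c
  exact (AlgHom.liftNormal_commutes ψ K c).symm

end Groth.Agent.PerfRad
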